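import Groth.Agent.ProEtLC.Limit
import Groth.Agent.EpsLan.Push

/-!
Locally constant pro-etale sheaves of modules of finite presentation are classical.
-/

set_option autoImplicit false
set_option backward.isDefEq.respectTransparency false
set_option backward.isDefEq.respectTransparency.types false
set_option linter.style.haveILetI false
set_option linter.unusedSectionVars false
set_option maxHeartbeats 1000000
set_option synthInstance.maxHeartbeats 200000

universe u

open CategoryTheory CategoryTheory.Limits AlgebraicGeometry Opposite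

noncomputable section

namespace Groth.Agent.ProEtLC

open Groth.Agent.WContr Groth.Agent.EpsLan

variable {Λ : Type (u + 1)} [CommRing Λ] {X : Scheme.{u}}

section PresCone

variable {W : X.ProEt} (P : Pres W)

/-- the pro-etale diagram of a presentation -/
abbrev presDia : P.I ⥤ X.ProEt := P.D ⋙ ProEtS.eps X

/-- the cone of a presentation -/
def presCone : Cone (presDia P) where
  pt := W
  π :=
    { app := P.π
      naturality := fun i j f => (Category.id_comp _).trans (P.w f).symm }

@[simp] theorem presCone_π (i : P.I) : (presCone P).π.app i = P.π i := rfl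

instance isAffineHom_presDia (i j : P.I) (f : i ⟶ j) : IsAffineHom ((presDia P).map f).left := P.affT f
instance compactSpace_presDia (i : P.I) : CompactSpace ↥((presDia P).obj i).left := P.cpt i
instance quasiSeparatedSpace_presDia (i : P.I) : QuasiSeparatedSpace ↥((presDia P).obj i).left := P.qsp i

/-- it is a limit of schemes -/
def isLimit_presCone : IsLimit ((Scheme.ProEt.forget X ⋙ Over.forget X).mapCone (presCone P)) :=
  IsLimit.ofIsoLimit P.lim (Cone.ext (Iso.refl _) fun i => (Category.id_comp _).symm)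

variable {G : EtModW.ModP Λ X}

theorem pres_surj (hG : HasTriv G) (s : G.obj.obj (op W)) :
    ∃ (i : P.I) (r : G.obj.obj (op ((ProEtS.eps X).obj (P.D.obj i)))), res G (P.π i) r = s :=
  exists_surj (presDia P) (presCone P) (isLimit_presCone P) G hG s

theorem pres_inj (hG : HasTriv G) {i : P.I} (r : G.obj.obj (op ((ProEtS.eps X).obj (P.D.obj i))))
    (h : res G (P.π i) r = 0) : ∃ (j : P.I) (φ : j ⟶ i), res G ((ProEtS.eps X).map (P.D.map φ)) r = 0 := by
  have hw : ∀ {T : X.ProEt} (g : T ⟶ (presDia P).obj i), pfst (𝟙 ((presDia P).obj i)) g = psnd (𝟙 _) g ≫ g :=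
    fun g => (Category.comp_id _).symm.trans (pb_w _ _)
  obtain ⟨j, φ, hφ⟩ := exists_inj (presDia P) (presCone P) (isLimit_presCone P) G hG (𝟙 _) r (by
    rw [hw, ← res_res]
    exact (congrArg (res G _) h).trans (map_zero _))
  refine ⟨j, φ, ?_⟩
  change res G ((presDia P).map φ) r = 0
  have e : (presDia P).map φ ≫ 𝟙 _ = 𝟙 _ ≫ (presDia P).map φ := (Category.comp_id _).trans (Category.id_comp _).symm
  rw [← plift_fst ((presDia P).map φ) (𝟙 _) e, ← res_res]
  exact (congrArg (res G _) hφ).trans (map_zero _)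

end PresCone

section Counit

variable [ProEtS.EpsCont X]

/-- `ε_*` of modules -/
abbrev pushMod (Λ : Type (u + 1)) [CommRing Λ] (X : Scheme.{u}) [ProEtS.EpsCont X] :
    EtModW.ModP Λ X ⥤ EtModW.Mod Λ X :=
  (ProEtS.eps X).sheafPushforwardContinuous (ModuleCat.{u + 1} Λ) X.smallEtaleTopology (Scheme.ProEt.topology X)

/-- `ε⁻¹ ⊣ ε_*` for modules -/
abbrev adjMod (Λ : Type (u + 1)) [CommRing Λ] (X : Scheme.{u}) [ProEtS.EpsCont X] :
    EtModW.epsPullMod Λ X ⊣ pushMod Λ X :=
  (ProEtS.eps X).sheafAdjunctionContinuous (ModuleCat.{u + 1} Λ) X.smallEtaleTopology (Scheme.ProEt.topology X)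

theorem nonempty_undP_essImage {G : EtModW.ModP Λ X} (hG : HasTriv G) :
    Nonempty ((undP Λ).obj G ≅ (ProEtS.epsPull X).obj ((ProEtS.epsPush X).obj ((undP Λ).obj G))) := by
  let A := (ProEtS.epsPush X).obj ((undP Λ).obj G)
  let f : pre A ⟶ ((undP Λ).obj G).obj :=
    (((ProEtS.eps X).op.lanAdjunction AddCommGrpCat.{u + 1}).homEquiv _ _).symm (𝟙 _)
  have hf : EpsLan.unit A ≫ Functor.whiskerLeft (ProEtS.eps X).op f = 𝟙 _ := by
    have h := (((ProEtS.eps X).op.lanAdjunction AddCommGrpCat.{u + 1}).homEquiv A.obj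
      ((undP Λ).obj G).obj).apply_symm_apply (𝟙 _)
    rw [Adjunction.homEquiv_unit, lan_unit_app] at h
    exact h
  have hsec : ∀ {T : X.ProEt} {V : X.Etale} (g : T ⟶ (ProEtS.eps X).obj V) (a : A.obj.obj (op V)),
      f.app (op T) (sec A g a) = res G g a := fun {T V} g a => by
    change f.app (op T) ((pre A).map g.op ((EpsLan.unit A).app (op V) a)) = _
    rw [NatTrans.naturality_apply]
    exact congrArg (res G g) (ConcreteCategory.congr_hom (congrArg (fun m => NatTrans.app m (op V)) hf) a)
  let d : GP A ⟶ (undP Λ).obj G :=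
    ((sheafificationAdjunction (Scheme.ProEt.topology X) AddCommGrpCat.{u + 1}).homEquiv _ _).symm f
  have hd : η A ≫ d.hom = f := by
    have h := ((sheafificationAdjunction (Scheme.ProEt.topology X) AddCommGrpCat.{u + 1}).homEquiv
      (pre A) ((undP Λ).obj G)).apply_symm_apply f
    rw [Adjunction.homEquiv_unit] at h
    exact h
  haveI : IsIso d := isIso_of_bijective_pres d fun W ⟨P⟩ => by
    have hfb : Function.Bijective (f.app (op W)) := by
      refine ⟨(injective_iff_map_eq_zero _).2 fun x hx => ?_, fun s => ?_⟩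
      · obtain ⟨i, a, rfl⟩ := P.exists_sec A x
        rw [hsec] at hx
        obtain ⟨j, φ, hφ⟩ := pres_inj P hG a hx
        rw [sec_pres_map P A φ a]
        exact (congrArg (sec A (P.π j)) (show A.obj.map (P.D.map φ).op a = 0 from hφ)).trans (map_zero _)
      · obtain ⟨i, r, hr⟩ := pres_surj P hG s
        exact ⟨sec A (P.π i) r, (hsec _ _).trans hr⟩
    have h2 : Function.Bijective (d.hom.app (op W) ∘ (η A).app (op W)) :=
      (congrArg (fun m : pre A ⟶ ((undP Λ).obj G).obj => Function.Bijective (ConcreteCategory.hom (m.app (op W))))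
        hd).mpr hfb
    exact (Function.Bijective.of_comp_iff _ (bijective_η P A)).1 h2
  exact ⟨(asIso d).symm ≪≫ ((Functor.sheafPullbackConstruction.sheafPullbackIso (ProEtS.eps X) AddCommGrpCat.{u + 1}
    X.smallEtaleTopology (Scheme.ProEt.topology X)).app A).symm⟩

theorem isIso_counit {G : EtModW.ModP Λ X} (hG : HasTriv G) : IsIso ((adjMod Λ X).counit.app G) := by
  let c := (adjMod Λ X).counit.app G
  haveI : IsIso ((adjMod Λ X).unit.app ((pushMod Λ X).obj G)) := isIso_unitMod Λ _
  haveI : IsIso ((pushMod Λ X).map c) :=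
    IsIso.of_isIso_fac_left ((adjMod Λ X).right_triangle_components G)
  haveI : IsIso ((ProEtS.epsPush X).map ((undP Λ).map c)) :=
    inferInstanceAs (IsIso ((undE Λ).map ((pushMod Λ X).map c)))
  obtain ⟨eB⟩ := EpsLan.nonempty_undP_pull Λ ((pushMod Λ X).obj G)
  obtain ⟨eA⟩ := nonempty_undP_essImage hG
  haveI : ∀ F, IsIso ((ProEtS.epsAdj X).unit.app F) := fun F => EpsLan.isIso_unit F
  have hc : ∀ {P : ProEtS.AbP X} (H : EtCoh.Ab X), (P ≅ (ProEtS.epsPull X).obj H) →
      IsIso ((ProEtS.epsAdj X).counit.app P) := fun H e => by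
    have h0 : IsIso ((ProEtS.epsAdj X).counit.app ((ProEtS.epsPull X).obj H)) :=
      IsIso.of_isIso_fac_left ((ProEtS.epsAdj X).left_triangle_components H)
    exact (NatTrans.isIso_app_iff_of_iso (ProEtS.epsAdj X).counit e).2 h0
  haveI : IsIso ((ProEtS.epsAdj X).counit.app ((undP Λ).obj ((pushMod Λ X ⋙ EtModW.epsPullMod Λ X).obj G))) :=
    hc _ eB
  haveI : IsIso ((ProEtS.epsAdj X).counit.app ((undP Λ).obj ((𝟭 (EtModW.ModP Λ X)).obj G))) := hc _ eA
  haveI : IsIso ((ProEtS.epsPush X ⋙ ProEtS.epsPull X).map ((undP Λ).map c)) :=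
    inferInstanceAs (IsIso ((ProEtS.epsPull X).map ((ProEtS.epsPush X).map ((undP Λ).map c))))
  haveI : IsIso ((undP Λ).map c) :=
    IsIso.of_isIso_fac_left ((ProEtS.epsAdj X).counit.naturality ((undP Λ).map c)).symm
  haveI : Sheaf.IsLocallyInjective c :=
    ⟨fun a b h => Presheaf.equalizerSieve_mem (Scheme.ProEt.topology X) ((undP Λ).map c).hom a b h⟩
  haveI : Sheaf.IsLocallySurjective c :=
    ⟨fun s => Presheaf.imageSieve_mem (Scheme.ProEt.topology X) ((undP Λ).map c).hom s⟩
  exact (Sheaf.isLocallyBijective_iff_isIso (A := ModuleCat.{u + 1} Λ) c).1 ⟨inferInstance, inferInstance⟩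

end Counit

end Groth.Agent.ProEtLC
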