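import Groth.Agent.ProEtLC.Classical
import Groth.Agent.EtTrivGen.Germ
import Mathlib.Algebra.Module.FinitePresentation

/-!
Trivialisations of locally constant pro-etale sheaves of modules of finite presentation descend to etale
neighbourhoods.
-/

set_option autoImplicit false
set_option backward.isDefEq.respectTransparency false
set_option backward.isDefEq.respectTransparency.types false
set_option linter.style.haveILetI false
set_option linter.unusedSectionVars false
set_option maxHeartbeats 1000000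
set_option synthInstance.maxHeartbeats 200000

universe u

open CategoryTheory CategoryTheory.Limits AlgebraicGeometry Opposite

noncomputable section

namespace Groth.Agent.ProEtLC

open Groth.Agent.WContr Groth.Agent.EpsLan

variable {Λ : Type (u + 1)} [CommRing Λ] {X : Scheme.{u}} {G : EtModW.ModP Λ X}

section Local

variable {U : X.ProEt} {M : Type (u + 1)} [AddCommGroup M] [Module Λ M] {σ : M →ₗ[Λ] G.obj.obj (op U)}

theorem IsTrivP.congr (h : IsTrivP G U σ) {N : Type (u + 1)} [AddCommGroup N] [Module Λ N] (e : N ≃ₗ[Λ] M) :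
    IsTrivP G U (σ.comp e.toLinearMap) where
  surj g s := by
    obtain ⟨S, hS, hS'⟩ := h.surj g s
    refine ⟨S, hS, fun {W} l hl => ?_⟩
    obtain ⟨m, hm⟩ := hS' l hl
    exact ⟨e.symm m, by rw [LinearMap.comp_apply, LinearEquiv.coe_coe, e.apply_symm_apply, hm]⟩
  inj g m hm hne := e.map_eq_zero_iff.1 (h.inj g (e m) hm hne)

theorem isTrivP_of_isEmpty [IsEmpty U.left] (σ : M →ₗ[Λ] G.obj.obj (op U)) : IsTrivP G U σ where
  surj {V} g _ := by
    haveI : IsEmpty V.left := Function.isEmpty g.left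
    exact ⟨⊥, Scheme.ProEt.bot_mem_topology V, fun {W} _ h => h.elim⟩
  inj g _ _ hne := by
    obtain ⟨v⟩ := hne
    exact isEmptyElim (g.left v)

/-- trivialisations are local -/
theorem isTrivP_of_cover (σ : M →ₗ[Λ] G.obj.obj (op U)) {S : Sieve U} (hS : S ∈ Scheme.ProEt.topology X U)
    (h : ∀ {W : X.ProEt} (f : W ⟶ U), S f → IsTrivP G W ((res G f).comp σ)) : IsTrivP G U σ where
  surj {V} g s := by
    let R : Sieve V :=
      { arrows := fun W => {l : W ⟶ V | ∃ m, res G l s = res G (l ≫ g) (σ m)}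
        downward_closed := fun {W W'} l hl k => by
          obtain ⟨m, hm⟩ := hl
          exact ⟨m, by rw [← res_res, hm, res_res, Category.assoc]⟩ }
    refine ⟨R, (Scheme.ProEt.topology X).transitive ((Scheme.ProEt.topology X).pullback_stable g hS) R
      fun W f hf => ?_, fun {W} l hl => hl⟩
    obtain ⟨S', hS', hS''⟩ := (h (f ≫ g) hf).surj (𝟙 W) (res G f s)
    refine (Scheme.ProEt.topology X).superset_covering (fun T l hl => ?_) hS'
    obtain ⟨m, hm⟩ := hS'' l hl
    refine ⟨m, ?_⟩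
    rw [← res_res, hm, LinearMap.comp_apply, res_res, Category.comp_id, Category.assoc]
  inj {V} g m hm hne := by
    obtain ⟨v⟩ := hne
    obtain ⟨W, f, w, hf, -⟩ := EpsLan.exists_mem_of_covering _ ((Scheme.ProEt.topology X).pullback_stable g hS) v
    refine (h (f ≫ g) hf).inj (𝟙 W) m ?_ ⟨w⟩
    rw [res_id, LinearMap.comp_apply, ← res_res, hm, map_zero]

/-- a map into the values of a trivialisation which trivialises somewhere trivialises -/
theorem IsTrivP.of_meet (h : IsTrivP G U σ) [Nonempty U.left] {N : Type (u + 1)} [AddCommGroup N] [Module Λ N]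
    (τ : N →ₗ[Λ] G.obj.obj (op U)) (hr : ∀ n, τ n ∈ LinearMap.range σ) {Q : X.ProEt} [Nonempty Q.left] (q : Q ⟶ U)
    (hQ : IsTrivP G Q ((res G q).comp τ)) : IsTrivP G U τ := by
  have hσi : Function.Injective σ := (injective_iff_map_eq_zero σ).2 fun m hm =>
    h.inj (𝟙 U) m (by rw [hm, map_zero]) inferInstance
  let φ : N →ₗ[Λ] M := (LinearEquiv.ofInjective σ hσi).symm.toLinearMap.comp (τ.codRestrict _ hr)
  have hφ : ∀ n, σ (φ n) = τ n := fun n =>
    congrArg Subtype.val ((LinearEquiv.ofInjective σ hσi).apply_symm_apply ⟨τ n, hr n⟩)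
  have hb : Function.Bijective φ := by
    refine ⟨(injective_iff_map_eq_zero φ).2 fun n hn => ?_, fun m => ?_⟩
    · refine hQ.inj (𝟙 Q) n ?_ inferInstance
      rw [LinearMap.comp_apply, ← hφ, hn, map_zero, map_zero, map_zero]
    · obtain ⟨S, hS, hS'⟩ := hQ.surj (𝟙 Q) (res G q (σ m))
      obtain ⟨W, f, w, hf, -⟩ := EpsLan.exists_mem_of_covering S hS (Classical.arbitrary Q.left)
      obtain ⟨n, hn⟩ := hS' f hf
      haveI : Nonempty W.left := ⟨w⟩
      refine ⟨n, h.eq_of_res (f ≫ q) ?_⟩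
      rw [hφ, ← res_res, ← res_res, hn, Category.comp_id, LinearMap.comp_apply]
  have e : τ = σ.comp (LinearEquiv.ofBijective φ hb).toLinearMap := LinearMap.ext fun n => (hφ n).symm
  rw [e]
  exact h.congr _

theorem exists_common_sieve (h : IsTrivP G U σ) : ∀ (n : ℕ) (s : Fin n → G.obj.obj (op U)),
    ∃ S ∈ Scheme.ProEt.topology X U, ∀ {W : X.ProEt} (f : W ⟶ U), S f →
      ∀ l, ∃ m, res G f (s l) = res G f (σ m)
  | 0, _ => ⟨⊤, (Scheme.ProEt.topology X).top_mem U, fun _ _ l => l.elim0⟩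
  | n + 1, s => by
    obtain ⟨S, hS, hS'⟩ := exists_common_sieve h n (fun l => s l.castSucc)
    obtain ⟨T, hT, hT'⟩ := h.surj (𝟙 U) (s (Fin.last n))
    refine ⟨S ⊓ T, (Scheme.ProEt.topology X).intersection_covering hS hT, fun {W} f hf l => ?_⟩
    induction l using Fin.lastCases with
    | last =>
      obtain ⟨m, hm⟩ := hT' f hf.2
      exact ⟨m, by rw [hm, Category.comp_id]⟩
    | cast l => exact hS' f hf.1 l

end Local

section Stage

variable {W : X.ProEt} (P : Pres W) {M : Type (u + 1)} [AddCommGroup M] [Module Λ M]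
  [Module.FinitePresentation Λ M]

theorem pres_map_res {i j : P.I} (φ : j ⟶ i) (r : G.obj.obj (op ((ProEtS.eps X).obj (P.D.obj i)))) :
    res G (P.π j) (res G ((ProEtS.eps X).map (P.D.map φ)) r) = res G (P.π i) r := by
  rw [res_res, P.w]

/-- linear maps out of finitely presented modules into sections at the limit come from a stage -/
theorem exists_stage_hom (hG : HasTriv G) (σ : M →ₗ[Λ] G.obj.obj (op W)) :
    ∃ (j : P.I) (τ : M →ₗ[Λ] G.obj.obj (op ((ProEtS.eps X).obj (P.D.obj j)))), (res G (P.π j)).comp τ = σ := by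
  classical
  obtain ⟨n, K, e, hK⟩ := Module.FinitePresentation.exists_fin (R := Λ) (M := M)
  let q : (Fin n → Λ) →ₗ[Λ] M := e.symm.toLinearMap.comp K.mkQ
  choose i r hr using fun l : Fin n => pres_surj P hG (σ (q (Pi.single l 1)))
  obtain ⟨i₀, hi₀⟩ := IsCofiltered.inf_objs_exists (Finset.univ.image i)
  let f : ∀ l, i₀ ⟶ i l := fun l => (hi₀ (Finset.mem_image_of_mem i (Finset.mem_univ l))).some
  let Ψ : (Fin n → Λ) →ₗ[Λ] G.obj.obj (op ((ProEtS.eps X).obj (P.D.obj i₀))) :=
    (Pi.basisFun Λ (Fin n)).constr Λ fun l => res G ((ProEtS.eps X).map (P.D.map (f l))) (r l)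
  have hΨ : (res G (P.π i₀)).comp Ψ = σ.comp q := (Pi.basisFun Λ (Fin n)).ext fun l => by
    rw [LinearMap.comp_apply, Module.Basis.constr_basis, pres_map_res, hr, Pi.basisFun_apply]
    rfl
  obtain ⟨t, ht⟩ := hK
  have hk : ∀ v : t, ∃ (j : P.I) (φ : j ⟶ i₀), res G ((ProEtS.eps X).map (P.D.map φ)) (Ψ v.1) = 0 := fun v => by
    refine pres_inj P hG _ ?_
    rw [← LinearMap.comp_apply, hΨ, LinearMap.comp_apply]
    have : v.1 ∈ K := ht ▸ Submodule.subset_span v.2
    rw [show q v.1 = 0 by simp [q, (Submodule.Quotient.mk_eq_zero K).2 this], map_zero]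
  choose j' φ hφ using hk
  obtain ⟨j, ψ, χ, hχ⟩ := IsCofiltered.wideCospan φ
  let Ψ' := (res G ((ProEtS.eps X).map (P.D.map ψ))).comp Ψ
  have hle : K ≤ LinearMap.ker Ψ' := by
    rw [← ht, Submodule.span_le]
    intro v hv
    change res G ((ProEtS.eps X).map (P.D.map ψ)) (Ψ v) = 0
    rw [← hχ ⟨v, hv⟩, Functor.map_comp, CategoryTheory.Functor.map_comp, ← res_res, hφ ⟨v, hv⟩, map_zero]
  refine ⟨j, (K.liftQ Ψ' hle).comp e.toLinearMap, LinearMap.ext fun m => ?_⟩
  obtain ⟨v, hv⟩ := K.mkQ_surjective (e m)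
  have hm : m = q v := (e.symm_apply_apply m).symm.trans (congrArg e.symm hv.symm)
  rw [LinearMap.comp_apply, LinearMap.comp_apply, LinearEquiv.coe_coe, ← hv]
  change res G (P.π j) (res G ((ProEtS.eps X).map (P.D.map ψ)) (Ψ v)) = σ m
  rw [pres_map_res, hm, ← LinearMap.comp_apply, hΨ, LinearMap.comp_apply]

/-- a trivialisation at the limit comes from a trivialisation at a stage -/
theorem exists_stage_triv (hG : HasTriv G) {σ : M →ₗ[Λ] G.obj.obj (op W)} (hσ : IsTrivP G W σ) :
    ∃ (j : P.I) (τ : M →ₗ[Λ] G.obj.obj (op ((ProEtS.eps X).obj (P.D.obj j)))),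
      IsTrivP G ((ProEtS.eps X).obj (P.D.obj j)) τ := by
  classical
  obtain ⟨i, τ, hτ⟩ := exists_stage_hom P hG σ
  let V := (presDia P).obj i
  obtain ⟨n, Z, z, hZ, hzs, hσk⟩ := hG V inferInstance inferInstance
  haveI : ∀ k, IsAffine (Z k).left := hZ
  choose N _i1 _i2 _i3 σk hσk using hσk
  obtain ⟨g, s, hs⟩ := Module.Finite.exists_fin (R := Λ) (M := M)
  choose S hS hS' using fun k => exists_common_sieve (hσk k) g (fun l => res G (z k) (τ (s l)))
  choose c Yp y hY hyS hys using fun k => exists_finite_affine_compact (Z k) (S k) (hS k)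
  haveI : ∀ k b, IsAffine (Yp k b).left := hY
  have hb : ∀ p : Σ k, Fin (c k), ∃ (j : P.I) (φ : j ⟶ i),
      IsTrivP G (Yp p.1 p.2) ((res G (y p.1 p.2 ≫ z p.1)).comp τ) ∨
        IsEmpty (pb (y p.1 p.2 ≫ z p.1) ((presDia P).map φ)).left := by
    rintro ⟨k, b⟩
    by_cases hp : IsEmpty (pb (y k b ≫ z k) ((presCone P).π.app i)).left
    · obtain ⟨j, φ, hj⟩ := isEmpty_stage (presDia P) (presCone P) (isLimit_presCone P) (y k b ≫ z k) hp
      exact ⟨j, φ, Or.inr hj⟩
    · rw [not_isEmpty_iff] at hp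
      refine ⟨i, 𝟙 i, Or.inl ?_⟩
      let q := pfst (y k b ≫ z k) ((presCone P).π.app i)
      haveI : Nonempty (Yp k b).left := hp.map q.left
      refine ((hσk k).comap (y k b)).of_meet _ (fun m => ?_) q ?_
      · have hm : m ∈ Submodule.span Λ (Set.range s) := hs ▸ Submodule.mem_top
        revert m
        intro m hm
        induction hm using Submodule.span_induction with
        | mem m hm =>
          obtain ⟨l, rfl⟩ := hm
          obtain ⟨v, hv⟩ := hS' k (y k b) (hyS k b) l
          exact ⟨v, hv.symm.trans (res_res G _ _ _)⟩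
        | zero => rw [map_zero]; exact zero_mem _
        | add a b _ _ ha hb => rw [map_add]; exact add_mem ha hb
        | smul r a _ ha => rw [map_smul]; exact Submodule.smul_mem _ _ ha
      · have e : (res G q).comp ((res G (y k b ≫ z k)).comp τ) =
            (res G (psnd (y k b ≫ z k) ((presCone P).π.app i))).comp σ := by
          refine LinearMap.ext fun m => ?_
          exact ((res_res G _ _ _).trans ((congrArg (fun t => res G t (τ m)) (pb_w _ _)).trans
            (res_res G _ _ _).symm)).trans (congrArg (res G _) (LinearMap.congr_fun hτ m))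
        rw [e]
        exact hσ.comap _
  choose j φ hj using hb
  obtain ⟨j₀, ψ, χ, hχ⟩ := IsCofiltered.wideCospan φ
  refine ⟨j₀, (res G ((presDia P).map ψ)).comp τ, ?_⟩
  let R : Sieve ((presDia P).obj j₀) :=
    { arrows := fun T => {f : T ⟶ _ | IsTrivP G T ((res G f).comp ((res G ((presDia P).map ψ)).comp τ))}
      downward_closed := fun {T T'} f hf l => by
        have := IsTrivP.comap hf l
        change IsTrivP G T' _
        convert this using 1
        refine LinearMap.ext fun m => ?_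
        exact (res_res G l f _).symm }
  refine isTrivP_of_cover _ (S := R) ?_ fun f hf => hf
  refine (Scheme.ProEt.topology X).transitive
    ((Scheme.ProEt.topology X).pullback_stable ((presDia P).map ψ) (ofArrows_mem Z z hzs)) R fun T f hf => ?_
  obtain ⟨_, q, _, ⟨k⟩, hq⟩ := hf
  refine (Scheme.ProEt.topology X).superset_covering ?_
    ((Scheme.ProEt.topology X).pullback_stable q (ofArrows_mem (Yp k) (y k) (hys k)))
  rintro T' l ⟨_, q', _, ⟨b⟩, hq'⟩
  have e : q' ≫ y k b ≫ z k = (l ≫ f) ≫ (presDia P).map ψ := by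
    rw [← Category.assoc, hq', Category.assoc, hq, Category.assoc]
  change IsTrivP G T' ((res G (l ≫ f)).comp ((res G ((presDia P).map ψ)).comp τ))
  rcases hj ⟨k, b⟩ with ht | he
  · convert ht.comap q' using 1
    refine LinearMap.ext fun m => ?_
    rw [LinearMap.comp_apply, LinearMap.comp_apply, LinearMap.comp_apply, LinearMap.comp_apply, res_res, res_res, e]
  · have e' : q' ≫ y k b ≫ z k = ((l ≫ f) ≫ (presDia P).map (χ ⟨k, b⟩)) ≫ (presDia P).map (φ ⟨k, b⟩) := by
      rw [e, Category.assoc _ ((presDia P).map (χ ⟨k, b⟩)), ← (presDia P).map_comp, hχ ⟨k, b⟩]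
    haveI := he
    haveI : IsEmpty T'.left := Function.isEmpty (plift q' _ e').left
    exact isTrivP_of_isEmpty _

end Stage

section Etale

theorem eps_piece_hom (V : X.Etale) (O : V.left.Opens) :
    ∃ (a : (ProEtS.eps X).obj (opn V O) ⟶ piece ((ProEtS.eps X).obj V) O),
      a ≫ pieceHom ((ProEtS.eps X).obj V) O = (ProEtS.eps X).map (opnHom V O) :=
  ⟨MorphismProperty.Over.homMk (𝟙 _) (Category.id_comp _), MorphismProperty.Over.Hom.ext (Category.id_comp _)⟩

variable [ProEtS.EpsCont X] {V : X.Etale} {M : Type (u + 1)} [AddCommGroup M] [Module Λ M]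

/-- trivialisations on etale objects -/
theorem isTrivG_of_isTrivP (σ : M →ₗ[Λ] G.obj.obj (op ((ProEtS.eps X).obj V)))
    (h : IsTrivP G ((ProEtS.eps X).obj V) σ) :
    EtTrivGen.IsTrivG ((pushMod Λ X).obj G) V (fun m => σ m) where
  surj {V'} g s v := by
    obtain ⟨O, hO, hvO, -⟩ : ∃ O : V'.left.Opens, IsAffineOpen O ∧ v ∈ O ∧ O ≤ ⊤ :=
      TopologicalSpace.Opens.isBasis_iff_nbhd.mp V'.left.isBasis_affineOpens
        (show v ∈ (⊤ : V'.left.Opens) from trivial)
    let V₁ := opn V' O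
    haveI : IsAffine V₁.left := hO
    haveI : CompactSpace ((ProEtS.eps X).obj V₁).left := inferInstanceAs (CompactSpace V₁.left)
    haveI : QuasiSeparatedSpace ((ProEtS.eps X).obj V₁).left := inferInstanceAs (QuasiSeparatedSpace V₁.left)
    let g₁ := (ProEtS.eps X).map (opnHom V' O ≫ g)
    obtain ⟨N, W, m, hcov, -, hm⟩ := exists_decomp h g₁ (res G ((ProEtS.eps X).map (opnHom V' O)) s)
    obtain ⟨x, hx⟩ : v ∈ Set.range O.ι := by rw [Scheme.Opens.range_ι]; exact hvO
    obtain ⟨a, ha⟩ := TopologicalSpace.Opens.mem_iSup.mp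
      (hcov.ge (trivial : x ∈ (⊤ : ((ProEtS.eps X).obj V₁).left.Opens)))
    obtain ⟨y, hy⟩ : x ∈ Set.range (Scheme.Opens.ι (X := V₁.left) (W a)) := by rw [Scheme.Opens.range_ι]; exact ha
    refine ⟨opn V₁ (W a), opnHom V₁ (W a) ≫ opnHom V' O, m a, ⟨y, ?_⟩, ?_⟩
    · rw [EpsLan.left_comp, Scheme.Hom.comp_apply]
      exact (congrArg O.ι hy).trans hx
    · obtain ⟨b, hb⟩ := eps_piece_hom V₁ (W a)
      change res G ((ProEtS.eps X).map (opnHom V₁ (W a) ≫ opnHom V' O)) s =
        res G ((ProEtS.eps X).map ((opnHom V₁ (W a) ≫ opnHom V' O) ≫ g)) (σ (m a))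
      rw [Functor.map_comp, ← res_res, ← hb, ← res_res, hm a, res_res, ← Category.assoc, hb, Category.assoc,
        ← Functor.map_comp]
  inj g m m' hm v := by
    haveI : Nonempty ((ProEtS.eps X).obj _).left := ⟨v⟩
    exact h.eq_of_res ((ProEtS.eps X).map g) hm

/-- `ε_*` of a locally constant sheaf of finite presentation is locally constant of finite presentation -/
theorem isFPLocConst_pushMod (hG : EtModW.IsFPLocConstP Λ G) :
    EtModW.IsFPLocConst Λ ((pushMod Λ X).obj G) := by
  have hT := hasTriv_of_isFPLocConstP hG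
  have hx : ∀ x : X, ∃ (V : X.Etale) (v : V.left), V.hom v = x ∧ ∃ (M : Type (u + 1)) (_ : AddCommGroup M)
      (_ : Module Λ M) (_ : Module.FinitePresentation Λ M),
      Nonempty (EtModW.restr Λ ((pushMod Λ X).obj G) V ≅
        (constantSheaf (X.smallEtaleTopology.over V) (ModuleCat.{u + 1} Λ)).obj (ModuleCat.of Λ M)) := fun x => by
    obtain ⟨O, hO, hxO, -⟩ := TopologicalSpace.Opens.isBasis_iff_nbhd.mp X.isBasis_affineOpens
      (show x ∈ (⊤ : X.Opens) from trivial)
    let V₀ : X.Etale := Scheme.Etale.mk (Scheme.Opens.ι O)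
    haveI : IsAffine V₀.left := hO
    haveI : CompactSpace ((ProEtS.eps X).obj V₀).left := inferInstanceAs (CompactSpace V₀.left)
    haveI : QuasiSeparatedSpace ((ProEtS.eps X).obj V₀).left := inferInstanceAs (QuasiSeparatedSpace V₀.left)
    obtain ⟨n, Z, z, hZ, hzs, hσ⟩ := hT ((ProEtS.eps X).obj V₀) inferInstance inferInstance
    obtain ⟨x₀, hx₀⟩ : x ∈ Set.range (Scheme.Opens.ι O) := by rw [Scheme.Opens.range_ι]; exact hxO
    obtain ⟨k, t, ht⟩ := hzs x₀
    haveI := hZ k
    obtain ⟨M, _, _, hM, σ, hσ⟩ := hσ k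
    obtain ⟨Z', p, ⟨P⟩, hp⟩ := exists_pres_cover (Z k) (z k)
    obtain ⟨t', ht'⟩ := p.left.surjective t
    obtain ⟨j, τ, hτ⟩ := exists_stage_triv P hT (hσ.comap p)
    refine ⟨P.D.obj j, (P.π j).left t', ?_, M, inferInstance, inferInstance, hM,
      EtTrivGen.nonempty_iso (A := ModuleCat.{u + 1} Λ) (F := (pushMod Λ X).obj G) (U := P.D.obj j)
        (M := ModuleCat.of Λ M) (σ := ModuleCat.ofHom τ) (isTrivG_of_isTrivP τ hτ)⟩
    have e1 : (P.π j).left ≫ (P.D.obj j).hom = Z'.hom := Over.w (P.π j).hom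
    have e2 : p.left ≫ (Z k).hom = Z'.hom := Over.w p.hom
    have e3 : (z k).left ≫ Scheme.Opens.ι O = (Z k).hom := Over.w (z k).hom
    exact ((((Scheme.Hom.comp_apply _ _ _).symm.trans
      (congrArg (fun m : Z'.left ⟶ X => m t') (e1.trans e2.symm))).trans (Scheme.Hom.comp_apply _ _ _)).trans
        (congrArg (fun y => (Z k).hom y) ht')).trans (((congrArg (fun m : (Z k).left ⟶ X => m t) e3.symm).trans
          (Scheme.Hom.comp_apply _ _ _)).trans ((congrArg (fun y => Scheme.Opens.ι O y) ht).trans hx₀))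
  choose V v hv M i1 i2 i3 he using hx
  exact ⟨X, V, fun x => ⟨x, v x, hv x⟩, fun x => ⟨M x, i1 x, i2 x, i3 x, he x⟩⟩

end Etale

end Groth.Agent.ProEtLC
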