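import Groth.Agent.ProEtLC.Descend
import Groth.Agent.ProEtCont.Basic

/-!
The pullback of a locally constant etale sheaf of modules of finite presentation to the pro-etale site is
locally constant of finite presentation.
-/

set_option autoImplicit false
set_option backward.isDefEq.respectTransparency false
set_option backward.isDefEq.respectTransparency.types false
set_option linter.style.haveILetI false
set_option linter.unusedSectionVars false
set_option maxHeartbeats 1000000
set_option synthInstance.maxHeartbeats 200000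

universe u

open CategoryTheory CategoryTheory.Limits AlgebraicGeometry Opposite

noncomputable section

namespace Groth.Agent.ProEtLC

open Groth.Agent.WContr Groth.Agent.EpsLan

variable {Λ : Type (u + 1)} [CommRing Λ] {X : Scheme.{u}} (F : EtModW.Mod Λ X)

/-- sections of the extension coming from the etale site -/
abbrev lift (V : X.Etale) :
    (F.obj.obj (op V) : Type (u + 1)) →ₗ[Λ] (GPM Λ F).obj.obj (op ((ProEtS.eps X).obj V)) :=
  ((unitMapM Λ F).app (op V)).hom

theorem lift_map {V V' : X.Etale} (q : V' ⟶ V) (a : F.obj.obj (op V)) :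
    res (GPM Λ F) ((ProEtS.eps X).map q) (lift F V a) = lift F V' ((F.obj.map q.op).hom a) :=
  (NatTrans.naturality_apply (unitMapM Λ F) q.op a).symm

theorem θ_η_sec {T : X.ProEt} {V : X.Etale} (g : T ⟶ (ProEtS.eps X).obj V) (a : F.obj.obj (op V)) :
    (θ Λ F).hom.app (op T) ((η ((undE Λ).obj F)).app (op T) (sec ((undE Λ).obj F) g a)) =
      res (GPM Λ F) g (lift F V a) := by
  have e : Functor.whiskerRight (unitMapM Λ F) (fg Λ) =
      unitMap ((undE Λ).obj F) ≫ Functor.whiskerLeft (ProEtS.eps X).op (θ Λ F).hom := by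
    rw [unitMap, Category.assoc, ← Functor.whiskerLeft_comp, η_θ, Functor.whiskerLeft_comp,
      ← Category.assoc, unit_preIso]
    exact Functor.whiskerRight_comp _ _ _
  have h := ConcreteCategory.congr_hom (congrArg (fun m => NatTrans.app m (op V)) e) a
  change (θ Λ F).hom.app (op T) ((η ((undE Λ).obj F)).app (op T)
    ((pre ((undE Λ).obj F)).map g.op ((EpsLan.unit ((undE Λ).obj F)).app (op V) a))) = _
  rw [NatTrans.naturality_apply, NatTrans.naturality_apply]
  exact congrArg (res (GPM Λ F) g) h.symm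

theorem bijective_θ_η {Q : X.ProEt} (P : Pres Q) :
    Function.Bijective (fun x => (θ Λ F).hom.app (op Q) ((η ((undE Λ).obj F)).app (op Q) x)) := by
  haveI := isIso_θ Λ F
  haveI : IsIso (θ Λ F).hom := inferInstanceAs (IsIso ((sheafToPresheaf _ _).map (θ Λ F)))
  exact ((ConcreteCategory.isIso_iff_bijective ((θ Λ F).hom.app (op Q))).1 inferInstance).comp (bijective_η P _)

theorem exists_lift {Q : X.ProEt} (P : Pres Q) (s : (GPM Λ F).obj.obj (op Q)) :
    ∃ (i : P.I) (a : F.obj.obj (op (P.D.obj i))), res (GPM Λ F) (P.π i) (lift F _ a) = s := by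
  obtain ⟨x, hx⟩ := (bijective_θ_η F P).2 s
  obtain ⟨i, a, rfl⟩ := P.exists_sec _ x
  exact ⟨i, a, (θ_η_sec F _ a).symm.trans hx⟩

theorem exists_lift_zero {Q : X.ProEt} (P : Pres Q) {i : P.I} (a : F.obj.obj (op (P.D.obj i)))
    (h : res (GPM Λ F) (P.π i) (lift F _ a) = 0) :
    ∃ (j : P.I) (φ : j ⟶ i), (F.obj.map (P.D.map φ).op).hom a = 0 := by
  refine P.exists_map_eq_zero ((undE Λ).obj F) a ((bijective_θ_η F P).1 ?_)
  exact ((θ_η_sec F _ a).trans h).trans (((congrArg _ (map_zero _)).trans (map_zero _)).symm)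

variable {F} {U : X.Etale} {M : Type (u + 1)} [AddCommGroup M] [Module Λ M] {σ : M →ₗ[Λ] F.obj.obj (op U)}

theorem isTrivP_lift (h : EtTrivGen.IsTrivG F U (fun m => σ m)) :
    IsTrivP (GPM Λ F) ((ProEtS.eps X).obj U) ((lift F U).comp σ) where
  inj {V} g m hm hne := by
    obtain ⟨v⟩ := hne
    obtain ⟨ι, Z, z, hZ, hz⟩ := exists_pres_covering V
    obtain ⟨T, f, t, ⟨Q, q, _, ⟨k⟩, hq⟩, -⟩ := EpsLan.exists_mem_of_covering _ hz v
    obtain ⟨P⟩ := hZ k
    obtain ⟨i, b, hb⟩ := P.factor (z k ≫ g)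
    have h0 : res (GPM Λ F) (P.π i) (lift F _ ((F.obj.map b.op).hom (σ m))) = 0 := by
      rw [← lift_map, res_res, hb, ← res_res]
      exact (congrArg (res (GPM Λ F) (z k)) hm).trans (map_zero _)
    obtain ⟨j, φ, hφ⟩ := exists_lift_zero F P _ h0
    refine h.inj (P.D.map φ ≫ b) m 0 ?_ ((P.π j).left (q.left t))
    change (F.obj.map (P.D.map φ ≫ b).op).hom (σ m) = (F.obj.map (P.D.map φ ≫ b).op).hom (σ 0)
    rw [map_zero, map_zero, op_comp, Functor.map_comp, ModuleCat.hom_comp, LinearMap.comp_apply]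
    exact hφ
  surj {V} g s := by
    let R : Sieve V :=
      { arrows := fun W => {l : W ⟶ V | ∃ m, res (GPM Λ F) l s = res (GPM Λ F) (l ≫ g) ((lift F U).comp σ m)}
        downward_closed := fun {W W'} l hl k => by
          obtain ⟨m, hm⟩ := hl
          exact ⟨m, by rw [← res_res, hm, res_res, Category.assoc]⟩ }
    refine ⟨R, ?_, fun {W} l hl => hl⟩
    obtain ⟨ι, Z, z, hZ, hz⟩ := exists_pres_covering V
    refine (Scheme.ProEt.topology X).transitive hz R ?_
    rintro T f ⟨_, q, _, ⟨k⟩, rfl⟩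
    rw [Sieve.pullback_comp]
    refine (Scheme.ProEt.topology X).pullback_stable q ?_
    obtain ⟨P⟩ := hZ k
    obtain ⟨i₁, b, hb⟩ := P.factor (z k ≫ g)
    obtain ⟨i₂, a, ha⟩ := exists_lift F P (res (GPM Λ F) (z k) s)
    let i := IsCofiltered.min i₁ i₂
    let p₁ : i ⟶ i₁ := IsCofiltered.minToLeft _ _
    let p₂ : i ⟶ i₂ := IsCofiltered.minToRight _ _
    let a' := (F.obj.map (P.D.map p₂).op).hom a
    let S : Sieve (P.D.obj i) :=
      { arrows := fun W => {h' : W ⟶ P.D.obj i |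
          ∃ m, (F.obj.map h'.op).hom a' = (F.obj.map (h' ≫ P.D.map p₁ ≫ b).op).hom (σ m)}
        downward_closed := fun {W W'} h' hh' l => by
          obtain ⟨m, hm⟩ := hh'
          refine ⟨m, ?_⟩
          rw [Category.assoc, op_comp, Functor.map_comp, op_comp (f := l), Functor.map_comp, ModuleCat.hom_comp,
            ModuleCat.hom_comp, LinearMap.comp_apply, LinearMap.comp_apply, hm] }
    have hS : S ∈ X.smallEtaleTopology (P.D.obj i) := EpsLan.mem_etale_topology _ fun v => by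
      obtain ⟨W, h', m, ⟨w, hw⟩, hm⟩ := h.surj (P.D.map p₁ ≫ b) a' v
      exact ⟨W, h', w, ⟨m, hm⟩, hw⟩
    refine (Scheme.ProEt.topology X).superset_covering ?_
      ((Scheme.ProEt.topology X).pullback_stable (P.π i) ((ProEtCont.coverPreserving_eps X).cover_preserve hS))
    rintro T' l ⟨W, h', d, ⟨m, hm⟩, hd⟩
    refine ⟨m, ?_⟩
    have e1 : res (GPM Λ F) (z k) s = res (GPM Λ F) (P.π i) (lift F _ a') := by
      rw [← ha, ← lift_map, res_res, P.w]
    have e2 : (l ≫ z k) ≫ g = (d ≫ (ProEtS.eps X).map h') ≫ (ProEtS.eps X).map (P.D.map p₁ ≫ b) := by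
      rw [← hd, Category.assoc, ← hb, Category.assoc, Functor.map_comp, ← Category.assoc (P.π i), P.w]
    rw [← res_res, e1, res_res, hd, ← res_res, lift_map, hm, ← lift_map, res_res, e2, LinearMap.comp_apply,
      Category.assoc, ← Functor.map_comp]

theorem isFPLocConstP_GPM (hF : EtModW.IsFPLocConst Λ F) : EtModW.IsFPLocConstP Λ (GPM Λ F) := by
  obtain ⟨ι, U, hU, he⟩ := hF
  refine ⟨ι, fun i => (ProEtS.eps X).obj (U i), ?_, fun i => ?_⟩
  · let T : X.Etale := Scheme.Etale.mk (𝟙 X)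
    let S : Sieve T := Sieve.ofArrows U fun i => MorphismProperty.Over.homMk (U i).hom (Category.comp_id _)
    have hS : S ∈ X.smallEtaleTopology T := EpsLan.mem_etale_topology _ fun x => by
      obtain ⟨i, y, hy⟩ := hU x
      exact ⟨U i, _, y, Sieve.ofArrows_mk _ _ i, hy⟩
    refine (Scheme.ProEt.topology X).superset_covering ?_ ((ProEtCont.coverPreserving_eps X).cover_preserve hS)
    rintro W f ⟨Z, g, d, ⟨_, q, _, ⟨i⟩, rfl⟩, rfl⟩
    refine ⟨_, d ≫ (ProEtS.eps X).map q, _, ⟨i⟩, ?_⟩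
    rw [Category.assoc, Functor.map_comp]
    rfl
  · obtain ⟨M, _, _, hM, ⟨e⟩⟩ := he i
    obtain ⟨σ, hσ⟩ := EtTrivGen.exists_triv e
    exact ⟨M, inferInstance, inferInstance, hM,
      nonempty_over_iso (σ := (lift F (U i)).comp σ.hom) (isTrivP_lift (σ := σ.hom) hσ)⟩

theorem isFPLocConstP_of_iso {G H : EtModW.ModP Λ X} (e : G ≅ H) (h : EtModW.IsFPLocConstP Λ G) :
    EtModW.IsFPLocConstP Λ H := by
  obtain ⟨ι, U, hU, he⟩ := h
  refine ⟨ι, U, hU, fun i => ?_⟩
  obtain ⟨M, _, _, hM, ⟨f⟩⟩ := he i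
  exact ⟨M, inferInstance, inferInstance, hM,
    ⟨((Scheme.ProEt.topology X).overPullback (ModuleCat.{u + 1} Λ) (U i)).mapIso e.symm ≪≫ f⟩⟩

theorem isFPLocConstP_epsPull [ProEtS.EpsCont X] (hF : EtModW.IsFPLocConst Λ F) :
    EtModW.IsFPLocConstP Λ ((EtModW.epsPullMod Λ X).obj F) :=
  isFPLocConstP_of_iso ((Functor.sheafPullbackConstruction.sheafPullbackIso (ProEtS.eps X)
    (ModuleCat.{u + 1} Λ) X.smallEtaleTopology (Scheme.ProEt.topology X)).app F).symm (isFPLocConstP_GPM hF)

end Groth.Agent.ProEtLC
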