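import Groth.Agent.ProEtLC.Triv
import Groth.Agent.S9207

/-!
Sections of a locally constant pro-etale sheaf of modules commute with cofiltered limits of qcqs objects
with affine transition maps.
-/

set_option autoImplicit false
set_option backward.isDefEq.respectTransparency false
set_option linter.style.haveILetI false
set_option linter.unusedSectionVars false
set_option maxHeartbeats 1000000
set_option synthInstance.maxHeartbeats 200000

universe u

open CategoryTheory CategoryTheory.Limits AlgebraicGeometry Opposite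

noncomputable section

namespace Groth.Agent.ProEtLC

open Groth.Agent.WContr Groth.Agent.EpsLan

variable {Λ : Type (u + 1)} [CommRing Λ] {X : Scheme.{u}}

theorem left_comp_apply {U V W : X.ProEt} (f : U ⟶ V) (g : V ⟶ W) (x : U.left) :
    (f ≫ g).left x = g.left (f.left x) :=
  Scheme.Hom.comp_apply _ _ _

theorem exists_pb_preimage {A B V : X.ProEt} (a : A ⟶ V) (b : B ⟶ V) (x : A.left) (y : B.left)
    (h : a.left x = b.left y) : ∃ w, (pfst a b).left w = x ∧ (psnd a b).left w = y :=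
  Scheme.Pullback.exists_preimage_pullback x y h

/-- maps into open pieces -/
theorem exists_piece_lift {W P : X.ProEt} (O : P.left.Opens) (f : W ⟶ P) (h : ∀ w, f.left w ∈ O) :
    ∃ l : W ⟶ piece P O, l ≫ pieceHom P O = f := by
  refine ⟨MorphismProperty.Over.homMk (IsOpenImmersion.lift O.ι f.left ?_) ?_,
    MorphismProperty.Over.Hom.ext (IsOpenImmersion.lift_fac _ _ _)⟩
  · rintro _ ⟨w, rfl⟩
    exact (Scheme.Opens.range_ι O).ge (h w)
  · change IsOpenImmersion.lift O.ι f.left _ ≫ O.ι ≫ P.hom = W.hom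
    rw [IsOpenImmersion.lift_fac_assoc]
    exact Over.w f.hom

section LP

variable {I : Type u} [SmallCategory I] [IsCofiltered I] (D : I ⥤ X.ProEt)
  [haff : ∀ (i j : I) (a : i ⟶ j), IsAffineHom (D.map a).left]
  [hcs : ∀ i, CompactSpace ↥(D.obj i).left] [hqs : ∀ i, QuasiSeparatedSpace ↥(D.obj i).left]

/-- the diagram of underlying schemes -/
abbrev sd : I ⥤ Scheme.{u} := D ⋙ Scheme.ProEt.forget X ⋙ Over.forget X

instance isAffineHom_sd {i j : I} (f : i ⟶ j) : IsAffineHom ((sd D).map f) := haff i j f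
instance compactSpace_sd (i : I) : CompactSpace ((sd D).obj i) := hcs i
instance quasiSeparatedSpace_sd (i : I) : QuasiSeparatedSpace ((sd D).obj i) := hqs i

variable (c : Cone D) (hc : IsLimit ((Scheme.ProEt.forget X ⋙ Over.forget X).mapCone c))

include hc in
theorem isEmpty_stage {A : X.ProEt} [CompactSpace A.left] {i : I} (a : A ⟶ D.obj i)
    (h : IsEmpty (pb a (c.π.app i)).left) : ∃ (j : I) (φ : j ⟶ i), IsEmpty (pb a (D.map φ)).left :=
  Groth.Agent.S9207.result (sd D) _ hc i (a.left : A.left ⟶ (sd D).obj i) h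

variable (G : EtModW.ModP Λ X)

include hc in
theorem exists_inj_triv {T : X.ProEt} [CompactSpace T.left] [QuasiSeparatedSpace T.left] {i : I}
    (h : T ⟶ D.obj i) {M : Type (u + 1)} [AddCommGroup M] [Module Λ M]
    {σ : M →ₗ[Λ] G.obj.obj (op T)} (hσ : IsTrivP G T σ) (t : G.obj.obj (op T))
    (h0 : res G (pfst h (c.π.app i)) t = 0) :
    ∃ (j : I) (φ : j ⟶ i), res G (pfst h (D.map φ)) t = 0 := by
  classical
  obtain ⟨n, Y, y, m, hY, hys, hym⟩ := exists_pieces hσ (𝟙 T) t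
  haveI : ∀ l, IsAffine (Y l).left := hY
  have hl : ∀ l, ∃ (j : I) (φ : j ⟶ i), m l = 0 ∨ IsEmpty (pb (y l ≫ h) (D.map φ)).left := fun l => by
    by_cases hm : m l = 0
    · exact ⟨i, 𝟙 i, Or.inl hm⟩
    have he : IsEmpty (pb (y l ≫ h) (c.π.app i)).left := by
      by_contra hne
      rw [not_isEmpty_iff] at hne
      let p := pfst (y l ≫ h) (c.π.app i)
      let L : pb (y l ≫ h) (c.π.app i) ⟶ pb h (c.π.app i) :=
        plift (p ≫ y l) (psnd (y l ≫ h) (c.π.app i)) ((Category.assoc _ _ _).trans (pb_w _ _))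
      have e1 : res G (p ≫ y l) t = 0 := by
        rw [← plift_fst (p ≫ y l) (psnd (y l ≫ h) (c.π.app i)) ((Category.assoc _ _ _).trans (pb_w _ _)),
          ← res_res, h0, map_zero]
      refine hm (hσ.inj (p ≫ y l) (m l) ?_ hne)
      rw [← res_res, hym, res_res, Category.comp_id] at e1
      exact e1
    obtain ⟨j, φ, hj⟩ := isEmpty_stage D c hc (y l ≫ h) he
    exact ⟨j, φ, Or.inr hj⟩
  choose j φ hj using hl
  obtain ⟨j', ψ, χ, hχ⟩ := IsCofiltered.wideCospan φ
  refine ⟨j', ψ, sect_ext G ((Scheme.ProEt.topology X).pullback_stable (pfst h (D.map ψ))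
    (ofArrows_mem Y y hys)) fun {W} g hg => ?_⟩
  obtain ⟨_, q, _, ⟨l⟩, hq⟩ := hg
  rw [map_zero, res_res, ← hq, ← res_res, hym, res_res, Category.comp_id]
  rcases hj l with hm | he
  · rw [hm, map_zero, map_zero]
  · have e : q ≫ y l ≫ h = (g ≫ psnd h (D.map ψ) ≫ D.map (χ l)) ≫ D.map (φ l) := by
      rw [← Category.assoc, hq, Category.assoc, pb_w, Category.assoc, Category.assoc, ← D.map_comp, hχ l]
    let L := plift q (g ≫ psnd h (D.map ψ) ≫ D.map (χ l)) e
    haveI : IsEmpty W.left := Function.isEmpty L.left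
    haveI := subsingleton_of_isEmpty G W
    exact Subsingleton.elim _ _

include hc in
/-- a section over a qcqs object over a stage vanishing at the limit vanishes at a later stage -/
theorem exists_inj (hG : HasTriv G) {T : X.ProEt} [CompactSpace T.left] [QuasiSeparatedSpace T.left] {i : I}
    (h : T ⟶ D.obj i) (t : G.obj.obj (op T)) (h0 : res G (pfst h (c.π.app i)) t = 0) :
    ∃ (j : I) (φ : j ⟶ i), res G (pfst h (D.map φ)) t = 0 := by
  classical
  obtain ⟨n, Z, z, hZ, hzs, hσ⟩ := hG T inferInstance inferInstance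
  haveI : ∀ k, IsAffine (Z k).left := hZ
  choose M _i1 _i2 _i3 σ hσ using hσ
  have hk : ∀ k, ∃ (j : I) (φ : j ⟶ i), res G (pfst (z k ≫ h) (D.map φ)) (res G (z k) t) = 0 := fun k => by
    refine exists_inj_triv D c hc G (z k ≫ h) (hσ k) (res G (z k) t) ?_
    rw [res_res, ← plift_fst (pfst (z k ≫ h) (c.π.app i) ≫ z k) (psnd (z k ≫ h) (c.π.app i))
      ((Category.assoc _ _ _).trans (pb_w _ _)), ← res_res, h0, map_zero]
  choose j φ hj using hk
  obtain ⟨j', ψ, χ, hχ⟩ := IsCofiltered.wideCospan φ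
  refine ⟨j', ψ, sect_ext G ((Scheme.ProEt.topology X).pullback_stable (pfst h (D.map ψ))
    (ofArrows_mem Z z hzs)) fun {W} g hg => ?_⟩
  obtain ⟨_, q, _, ⟨k⟩, hq⟩ := hg
  have e : q ≫ z k ≫ h = (g ≫ psnd h (D.map ψ) ≫ D.map (χ k)) ≫ D.map (φ k) := by
    rw [← Category.assoc, hq, Category.assoc, pb_w, Category.assoc, Category.assoc, ← D.map_comp, hχ k]
  rw [map_zero, res_res, ← hq, ← res_res, ← plift_fst q _ e, ← res_res, hj k, map_zero]

include hc in
/-- gluing of stage sections which agree at the limit -/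
theorem exists_amalgamation (hG : HasTriv G) {j : I} {n : ℕ} (Y : Fin n → X.ProEt) (y : ∀ a, Y a ⟶ D.obj j)
    [∀ a, CompactSpace (Y a).left] [∀ a, QuasiSeparatedSpace (Y a).left]
    (hys : ∀ x : (D.obj j).left, ∃ a, x ∈ Set.range (y a).left)
    (t : ∀ a, G.obj.obj (op (Y a))) (s : G.obj.obj (op c.pt))
    (hval : ∀ {W : X.ProEt} (w : W ⟶ c.pt) (a : Fin n) (v : W ⟶ Y a),
      v ≫ y a = w ≫ c.π.app j → res G w s = res G v (t a)) :
    ∃ (i : I) (r : G.obj.obj (op (D.obj i))), res G (c.π.app i) r = s := by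
  classical
  let d := fun p : Fin n × Fin n => res G (pfst (y p.1) (y p.2)) (t p.1) - res G (psnd (y p.1) (y p.2)) (t p.2)
  have hp : ∀ p : Fin n × Fin n, ∃ (i : I) (φ : i ⟶ j),
      res G (pfst (pfst (y p.1) (y p.2) ≫ y p.1) (D.map φ)) (d p) = 0 := fun p => by
    haveI := compactSpace_pb (y p.1) (y p.2)
    haveI := quasiSeparatedSpace_pb (y p.1) (y p.2)
    refine exists_inj D c hc G hG _ _ ?_
    rw [map_sub, res_res, res_res, sub_eq_zero]
    refine (hval (psnd _ _) p.1 _ ?_).symm.trans (hval (psnd _ _) p.2 _ ?_)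
    · rw [Category.assoc]; exact pb_w _ _
    · rw [Category.assoc, ← pb_w (y p.1) (y p.2)]; exact pb_w _ _
  choose j' φ hd using hp
  obtain ⟨i, ψ, χ, hχ⟩ := IsCofiltered.wideCospan φ
  let Y' := fun a => pb (y a) (D.map ψ)
  let y' : ∀ a, Y' a ⟶ D.obj i := fun a => psnd (y a) (D.map ψ)
  haveI : ∀ a, CompactSpace (Y' a).left := fun a => compactSpace_pb _ _
  have hys' : ∀ x : (D.obj i).left, ∃ a, x ∈ Set.range (y' a).left := fun x => by
    obtain ⟨a, v, hv⟩ := hys ((D.map ψ).left x)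
    obtain ⟨w, -, hw⟩ := exists_pb_preimage (y a) (D.map ψ) v x hv
    exact ⟨a, w, hw⟩
  have hmem := ofArrows_mem Y' y' hys'
  have hcompat : Presieve.Arrows.Compatible (G.obj ⋙ forget (ModuleCat.{u + 1} Λ)) y'
      (fun a => res G (pfst (y a) (D.map ψ)) (t a)) := by
    intro a b W ga gb hab
    change res G ga (res G (pfst (y a) (D.map ψ)) (t a)) = res G gb (res G (pfst (y b) (D.map ψ)) (t b))
    rw [res_res, res_res]
    have e1 : (ga ≫ pfst (y a) (D.map ψ)) ≫ y a = (gb ≫ pfst (y b) (D.map ψ)) ≫ y b := by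
      rw [Category.assoc, Category.assoc, pb_w, pb_w, ← Category.assoc, ← Category.assoc,
        show ga ≫ psnd (y a) (D.map ψ) = gb ≫ psnd (y b) (D.map ψ) from hab]
    let l := plift (ga ≫ pfst (y a) (D.map ψ)) (gb ≫ pfst (y b) (D.map ψ)) e1
    have e2 : l ≫ pfst (y a) (y b) ≫ y a = ((ga ≫ psnd (y a) (D.map ψ)) ≫ D.map (χ (a, b))) ≫ D.map (φ (a, b)) := by
      rw [← Category.assoc, plift_fst, Category.assoc, pb_w, Category.assoc, Category.assoc, ← D.map_comp,
        hχ (a, b)]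
    have e3 : res G (plift l _ e2) (res G (pfst (pfst (y a) (y b) ≫ y a) (D.map (φ (a, b)))) (d (a, b))) = 0 := by
      rw [hd (a, b)]; exact map_zero _
    rw [res_res, plift_fst, map_sub, res_res, res_res, plift_fst, plift_snd, sub_eq_zero] at e3
    exact e3
  obtain ⟨r, hr, -⟩ := (Presieve.isSheafFor_arrows_iff _ _).mp
    ((Presieve.isSheafFor_iff_generate _).mpr (isSheaf G _ hmem)) _ hcompat
  refine ⟨i, r, sect_ext G ((Scheme.ProEt.topology X).pullback_stable (c.π.app i) hmem) fun {W} g hg => ?_⟩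
  obtain ⟨_, q, _, ⟨a⟩, hq⟩ := hg
  rw [res_res, ← hq, ← res_res, show res G (y' a) r = res G (pfst (y a) (D.map ψ)) (t a) from hr a, res_res]
  refine (hval g a (q ≫ pfst (y a) (D.map ψ)) ?_).symm
  rw [Category.assoc, pb_w, ← Category.assoc, hq, Category.assoc, c.w]

include hc in
/-- sections at the limit come from a stage -/
theorem exists_surj (hG : HasTriv G) (s : G.obj.obj (op c.pt)) :
    ∃ (i : I) (r : G.obj.obj (op (D.obj i))), res G (c.π.app i) r = s := by
  classical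
  obtain ⟨i₀⟩ := IsCofiltered.nonempty (C := I)
  obtain ⟨n, Z, z, hZ, hzs, hσ⟩ := hG (D.obj i₀) inferInstance inferInstance
  haveI : ∀ k, IsAffine (Z k).left := hZ
  choose M _i1 _i2 _i3 σ hσ using hσ
  haveI : CompactSpace c.pt.left := Scheme.compactSpace_of_isLimit _ _ hc
  let p₀ : c.pt ⟶ D.obj i₀ := c.π.app i₀
  haveI : QuasiSeparatedSpace c.pt.left := by
    let f : c.pt.left ⟶ (D.obj i₀).left := p₀.left
    haveI : IsAffineHom f := isAffineHom_π_app _ _ hc i₀
    exact quasiSeparatedSpace_of_quasiSeparated f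
  -- decompose the section on the trivialised pieces at the limit
  let P := fun k => pb (z k) p₀
  haveI : ∀ k, CompactSpace (P k).left := fun k => compactSpace_pb _ _
  haveI : ∀ k, QuasiSeparatedSpace (P k).left := fun k => quasiSeparatedSpace_pb _ _
  have hdec := fun k => exists_decomp (hσ k) (pfst (z k) p₀) (res G (psnd (z k) p₀) s)
  choose N O m hcov hdis hval using hdec
  have hcO : ∀ k (a : Fin (N k)), IsCompact (O k a : Set (P k).left) := fun k a => by
    refine IsClosed.isCompact ?_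
    rw [← isOpen_compl_iff]
    have : (O k a : Set (P k).left)ᶜ = ⋃ b ∈ {b | b ≠ a}, (O k b : Set (P k).left) := by
      ext x
      simp only [Set.mem_compl_iff, Set.mem_iUnion, exists_prop]
      constructor
      · intro hx
        obtain ⟨b, hb⟩ := TopologicalSpace.Opens.mem_iSup.mp ((hcov k).ge (trivial : x ∈ (⊤ : (P k).left.Opens)))
        exact ⟨b, fun h => hx (h ▸ hb), hb⟩
      · rintro ⟨b, hba, hb⟩ hx
        exact Set.disjoint_left.mp (hdis k hba) hb hx
    rw [this]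
    exact isOpen_biUnion fun b _ => (O k b).isOpen
  -- descend the pieces to a stage
  let T := fun k => LimDesc.tower (sd D) (z k).left
  let C := fun k => LimDesc.towerCone (sd D) (z k).left ((Scheme.ProEt.forget X ⋙ Over.forget X).mapCone c)
    (IsPullback.of_hasPullback (z k).left (((Scheme.ProEt.forget X ⋙ Over.forget X).mapCone c).π.app i₀))
  let hC := fun k => LimDesc.isLimitTowerCone (sd D) (z k).left ((Scheme.ProEt.forget X ⋙ Over.forget X).mapCone c)
    (IsPullback.of_hasPullback (z k).left (((Scheme.ProEt.forget X ⋙ Over.forget X).mapCone c).π.app i₀)) hc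
  have hopen : ∀ q : Σ k, Fin (N k), ∃ (j : Over i₀) (V : ((T q.1).obj j).Opens),
      IsCompact (V : Set ((T q.1).obj j)) ∧ (C q.1).π.app j ⁻¹ᵁ V = O q.1 q.2 := fun q =>
    exists_preimage_eq (T q.1) (C q.1) (hC q.1) (O q.1 q.2) (hcO q.1 q.2)
  choose j V hVc hV using hopen
  obtain ⟨i₁, ψ₁, χ, hχ⟩ := IsCofiltered.wideCospan fun q => (j q).hom
  let J₁ : Over i₀ := Over.mk ψ₁
  let e : ∀ k (a : Fin (N k)), J₁ ⟶ j ⟨k, a⟩ := fun k a => Over.homMk (χ ⟨k, a⟩) (hχ ⟨k, a⟩)
  let V₁ : ∀ k, Fin (N k) → ((T k).obj J₁).Opens := fun k a => (T k).map (e k a) ⁻¹ᵁ V ⟨k, a⟩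
  have hV₁ : ∀ k (a : Fin (N k)), (C k).π.app J₁ ⁻¹ᵁ V₁ k a = O k a := fun k a => by
    rw [← hV ⟨k, a⟩, ← Scheme.Hom.comp_preimage, (C k).w]
  haveI : ∀ k (q : Over i₀), CompactSpace ((T k).obj q) := fun k q => LimDesc.compactSpace_stage _ _ q
  have hfull : ∀ k, ∃ (q : Over i₀) (f : q ⟶ J₁), (T k).map f ⁻¹ᵁ (⨆ a, V₁ k a) = ⊤ := fun k => by
    refine exists_map_eq_top (T k) (C k) (hC k) _ ?_
    rw [Scheme.Hom.preimage_iSup]
    simp only [hV₁]
    exact hcov k
  choose q f hf using hfull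
  obtain ⟨i₂, ψ₂, χ₂, hχ₂⟩ := IsCofiltered.wideCospan fun k => (f k).left
  let J₂ : Over i₀ := Over.mk (ψ₂ ≫ ψ₁)
  let g : J₂ ⟶ J₁ := Over.homMk ψ₂ rfl
  let V₂ : ∀ k, Fin (N k) → ((T k).obj J₂).Opens := fun k a => (T k).map g ⁻¹ᵁ V₁ k a
  have hV₂ : ∀ k (a : Fin (N k)), (C k).π.app J₂ ⁻¹ᵁ V₂ k a = O k a := fun k a => by
    rw [← hV₁ k a, ← Scheme.Hom.comp_preimage, (C k).w]
  have hV₂c : ∀ k (a : Fin (N k)), IsCompact (V₂ k a : Set ((T k).obj J₂)) := fun k a => by
    haveI : IsAffineHom ((T k).map g) := LimDesc.isAffineHom_tower_map _ _ g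
    haveI : IsAffineHom ((T k).map (e k a)) := LimDesc.isAffineHom_tower_map _ _ _
    exact QuasiCompact.isCompact_preimage (f := (T k).map g) _ (V₁ k a).isOpen
      (QuasiCompact.isCompact_preimage (f := (T k).map (e k a)) _ (V ⟨k, a⟩).isOpen (hVc ⟨k, a⟩))
  have hV₂cov : ∀ k, (⨆ a, V₂ k a) = ⊤ := fun k => by
    have hw : f k ≫ 𝟙 _ = f k := Category.comp_id _
    let l : J₂ ⟶ q k := Over.homMk (χ₂ k) (by
      change χ₂ k ≫ (q k).hom = ψ₂ ≫ ψ₁
      rw [← Over.w (f k), ← Category.assoc, hχ₂ k]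
      rfl)
    have hl : l ≫ f k = g := Over.OverMorphism.ext (hχ₂ k)
    have h1 := congrArg (fun W => (T k).map l ⁻¹ᵁ W) (hf k)
    rw [← Scheme.Hom.comp_preimage, ← (T k).map_comp, hl, Scheme.Hom.preimage_top,
      Scheme.Hom.preimage_iSup] at h1
    exact h1
  -- the stage pieces
  let R := fun k => pb (z k) (D.map (ψ₂ ≫ ψ₁))
  haveI : ∀ k, QuasiSeparatedSpace (R k).left := fun k => quasiSeparatedSpace_pb _ _
  let F := Fintype.equivFin (Σ k, Fin (N k))
  let Y₀ := fun b : Σ k, Fin (N k) => piece (R b.1) (V₂ b.1 b.2)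
  let y₀ : ∀ b, Y₀ b ⟶ D.obj i₂ := fun b => pieceHom (R b.1) (V₂ b.1 b.2) ≫ psnd (z b.1) (D.map (ψ₂ ≫ ψ₁))
  haveI : ∀ b, CompactSpace (Y₀ b).left := fun b => isCompact_iff_compactSpace.mp (hV₂c b.1 b.2)
  haveI : ∀ b, QuasiSeparatedSpace (Y₀ b).left := fun b => by
    let f : (Y₀ b).left ⟶ (R b.1).left := (pieceHom (R b.1) (V₂ b.1 b.2)).left
    haveI : IsOpenImmersion f := inferInstanceAs (IsOpenImmersion (V₂ b.1 b.2).ι)
    exact quasiSeparatedSpace_of_quasiSeparated f
  refine exists_amalgamation D c hc G hG (fun b => Y₀ (F.symm b)) (fun b => y₀ (F.symm b)) (fun x => ?_)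
    (fun b => res G (pieceHom (R (F.symm b).1) (V₂ (F.symm b).1 (F.symm b).2) ≫ pfst (z (F.symm b).1) _)
      (σ _ (m _ (F.symm b).2))) s (fun {W} w b v hv => ?_)
  · obtain ⟨k, v, hv⟩ := hzs ((D.map (ψ₂ ≫ ψ₁)).left x)
    obtain ⟨r, -, hr⟩ := exists_pb_preimage (z k) (D.map (ψ₂ ≫ ψ₁)) v x hv
    obtain ⟨a, ha⟩ := TopologicalSpace.Opens.mem_iSup.mp ((hV₂cov k).ge (trivial : r ∈ (⊤ : (R k).left.Opens)))
    obtain ⟨u, hu⟩ := (Scheme.Opens.range_ι (V₂ k a)).ge ha
    refine ⟨F ⟨k, a⟩, ?_⟩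
    rw [Equiv.symm_apply_apply]
    refine ⟨u, ?_⟩
    change (pieceHom (R k) (V₂ k a) ≫ psnd _ _).left u = x
    rw [left_comp_apply, show (pieceHom (R k) (V₂ k a)).left u = r from hu, hr]
  · generalize F.symm b = p at v hv ⊢
    obtain ⟨k, a⟩ := p
    replace hv : v ≫ pieceHom (R k) (V₂ k a) ≫ psnd (z k) (D.map (ψ₂ ≫ ψ₁)) = w ≫ c.π.app i₂ := hv
    have e1 : (v ≫ pieceHom (R k) (V₂ k a) ≫ pfst (z k) (D.map (ψ₂ ≫ ψ₁))) ≫ z k = w ≫ c.π.app i₀ := by
      rw [Category.assoc, Category.assoc, pb_w, ← Category.assoc (pieceHom _ _), ← Category.assoc v, hv,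
        Category.assoc, c.w]
    let L := plift (v ≫ pieceHom (R k) (V₂ k a) ≫ pfst (z k) (D.map (ψ₂ ≫ ψ₁))) w e1
    have e2 : L.left ≫ (C k).π.app J₂ = (v ≫ pieceHom (R k) (V₂ k a)).left := by
      apply pullback.hom_ext
      · rw [Category.assoc]
        erw [pullback.lift_fst, pullback.lift_fst]
        rfl
      · rw [Category.assoc]
        erw [pullback.lift_snd]
        rw [← Category.assoc]
        erw [pullback.lift_snd]
        exact (congrArg (fun r : W ⟶ D.obj i₂ => r.left) hv).symm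
    have hL : ∀ x : W.left, L.left x ∈ O k a := fun x => by
      rw [← hV₂ k a]
      change (L.left ≫ (C k).π.app J₂) x ∈ V₂ k a
      rw [e2]
      exact (Scheme.Opens.range_ι (V₂ k a)).le ⟨v.left x, (Scheme.Hom.comp_apply _ _ _).symm⟩
    obtain ⟨l, hl⟩ := exists_piece_lift (O k a) L hL
    rw [← plift_snd _ w e1, show plift _ w e1 = L from rfl, ← hl, ← res_res, ← res_res, hval k a, res_res,
      ← Category.assoc l, hl, plift_fst, res_res]

end LP

end Groth.Agent.ProEtLC
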