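import Groth.Agent.EpsLan.Nice
import Groth.Agent.EpsLan.Mod
import Groth.Agent.WContr.DCEpi
import Groth.Agent.LimDesc.Tower
import Groth.Prelude.Def_EtModW

/-!
Trivialisations of pro-etale sheaves of modules: constancy criterion, clopen decompositions of sections.
-/

set_option autoImplicit false
set_option backward.isDefEq.respectTransparency false
set_option linter.style.haveILetI false
set_option linter.unusedSectionVars false
set_option maxHeartbeats 1000000
set_option synthInstance.maxHeartbeats 200000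

universe u

open CategoryTheory CategoryTheory.Limits AlgebraicGeometry Opposite

noncomputable section

namespace Groth.Agent.ProEtLC

open Groth.Agent.WContr Groth.Agent.EpsLan

variable {Λ : Type (u + 1)} [CommRing Λ] {X : Scheme.{u}}

/-- restriction of sections -/
abbrev res (G : EtModW.ModP Λ X) {U V : X.ProEt} (g : V ⟶ U) :
    (G.obj.obj (op U) : Type (u + 1)) →ₗ[Λ] G.obj.obj (op V) :=
  (G.obj.map g.op).hom

theorem res_res (G : EtModW.ModP Λ X) {U V W : X.ProEt} (h : W ⟶ V) (g : V ⟶ U) (s : G.obj.obj (op U)) :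
    res G h (res G g s) = res G (h ≫ g) s := by
  simp [res]

theorem res_id (G : EtModW.ModP Λ X) {U : X.ProEt} (s : G.obj.obj (op U)) : res G (𝟙 U) s = s := by
  simp [res]

theorem isSheaf (G : EtModW.ModP Λ X) :
    Presieve.IsSheaf (Scheme.ProEt.topology X) (G.obj ⋙ forget (ModuleCat.{u + 1} Λ)) :=
  (isSheaf_iff_isSheaf_of_type _ _).1 ((sheafCompose _ (forget (ModuleCat.{u + 1} Λ))).obj G).property

theorem sect_ext (G : EtModW.ModP Λ X) {U : X.ProEt} {S : Sieve U} (hS : S ∈ Scheme.ProEt.topology X U)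
    {s t : G.obj.obj (op U)} (h : ∀ {W : X.ProEt} (g : W ⟶ U), S g → res G g s = res G g t) : s = t :=
  (isSheaf G S hS).isSeparatedFor.ext fun _ g hg => h g hg

theorem subsingleton_of_isEmpty (G : EtModW.ModP Λ X) (D : X.ProEt) [IsEmpty D.left] :
    Subsingleton (G.obj.obj (op D)) :=
  ⟨fun a b => sect_ext G (Scheme.ProEt.bot_mem_topology D) fun _ hg => hg.elim⟩

theorem weaklyEtale_left {A B : X.ProEt} (a : A ⟶ B) : WeaklyEtale a.left := by
  haveI : WeaklyEtale (a.left ≫ B.hom) := by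
    rw [show a.left ≫ B.hom = A.hom from Over.w a.hom]; exact A.prop
  exact WeaklyEtale.of_comp a.left B.hom

section Pb

variable {A B V : X.ProEt} (a : A ⟶ V) (b : B ⟶ V)

/-- fibre products -/
abbrev pb : X.ProEt :=
  haveI := weaklyEtale_left b
  haveI : WeaklyEtale (pullback.fst a.left b.left) := MorphismProperty.pullback_fst _ _ inferInstance
  haveI : WeaklyEtale A.hom := A.prop
  Scheme.ProEt.mk (pullback.fst a.left b.left ≫ A.hom)

/-- first projection -/
abbrev pfst : pb a b ⟶ A := MorphismProperty.Over.homMk (pullback.fst a.left b.left) rfl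

/-- second projection -/
abbrev psnd : pb a b ⟶ B := MorphismProperty.Over.homMk (pullback.snd a.left b.left) (by
  change pullback.snd a.left b.left ≫ B.hom = pullback.fst a.left b.left ≫ A.hom
  rw [← show a.left ≫ V.hom = A.hom from Over.w a.hom, ← show b.left ≫ V.hom = B.hom from Over.w b.hom,
    pullback.condition_assoc])

theorem pb_w : pfst a b ≫ a = psnd a b ≫ b := MorphismProperty.Over.Hom.ext pullback.condition

variable {a b} in
/-- maps into fibre products -/
abbrev plift {W : X.ProEt} (p : W ⟶ A) (q : W ⟶ B) (h : p ≫ a = q ≫ b) : W ⟶ pb a b :=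
  MorphismProperty.Over.homMk
    (pullback.lift p.left q.left (congrArg (fun k : W ⟶ V => k.left) h))
    (by
      change pullback.lift p.left q.left _ ≫ pullback.fst a.left b.left ≫ A.hom = W.hom
      rw [pullback.lift_fst_assoc]
      exact Over.w p.hom)

variable {a b} in
theorem plift_fst {W : X.ProEt} (p : W ⟶ A) (q : W ⟶ B) (h : p ≫ a = q ≫ b) : plift p q h ≫ pfst a b = p :=
  MorphismProperty.Over.Hom.ext (pullback.lift_fst _ _ _)

variable {a b} in
theorem plift_snd {W : X.ProEt} (p : W ⟶ A) (q : W ⟶ B) (h : p ≫ a = q ≫ b) : plift p q h ≫ psnd a b = q :=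
  MorphismProperty.Over.Hom.ext (pullback.lift_snd _ _ _)

theorem compactSpace_pb [CompactSpace A.left] [CompactSpace B.left] [QuasiSeparatedSpace V.left] :
    CompactSpace (pb a b).left := by
  haveI : QuasiCompact b.left := QuasiCompact.of_comp b.left (terminal.from V.left)
  exact QuasiCompact.compactSpace_of_compactSpace (pullback.fst a.left b.left)

theorem quasiSeparatedSpace_pb [QuasiSeparatedSpace A.left] [QuasiSeparatedSpace B.left] :
    QuasiSeparatedSpace (pb a b).left := by
  haveI : QuasiSeparated b.left := QuasiSeparated.of_comp b.left (terminal.from V.left)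
  exact quasiSeparatedSpace_of_quasiSeparated (pullback.fst a.left b.left)

theorem nonempty_pb (x : A.left) (y : B.left) (h : a.left x = b.left y) : Nonempty (pb a b).left := by
  obtain ⟨w, -, -⟩ := Scheme.Pullback.exists_preimage_pullback x y h
  exact ⟨w⟩

end Pb

theorem compactSpace_sigmaObj {n : ℕ} (Z : Fin n → X.ProEt) [∀ k, CompactSpace (Z k).left] :
    CompactSpace (sigmaObj Z).left := by
  refine ⟨?_⟩
  have e : (Set.univ : Set (sigmaObj Z).left) = ⋃ k, Set.range (Sigma.ι (fun k => (Z k).left) k) :=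
    (Set.eq_univ_of_forall fun x => Set.mem_iUnion.2
      ⟨(sigmaOpenCover fun k => (Z k).left).idx x, (sigmaOpenCover fun k => (Z k).left).covers x⟩).symm
  rw [e]
  exact isCompact_iUnion fun k => isCompact_range (Sigma.ι (fun k => (Z k).left) k).continuous

/-- finite jointly surjective families of compact objects cover -/
theorem ofArrows_mem {T : X.ProEt} [QuasiSeparatedSpace T.left] {n : ℕ} (Z : Fin n → X.ProEt)
    (z : ∀ k, Z k ⟶ T) [∀ k, CompactSpace (Z k).left] (hs : ∀ x : T.left, ∃ k, x ∈ Set.range (z k).left) :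
    Sieve.ofArrows Z z ∈ Scheme.ProEt.topology X T := by
  haveI : Surjective (sigmaOut Z z).left := ⟨fun x => by
    obtain ⟨k, w, hw⟩ := hs x
    refine ⟨(sigmaInj Z k).left w, ?_⟩
    rw [← hw, ← Scheme.Hom.comp_apply]
    exact congrArg (fun m : Z k ⟶ T => m.left w) (sigmaInj_out Z z k)⟩
  haveI := compactSpace_sigmaObj Z
  haveI : ∀ k : ULift.{u} (Fin n), IsOpenImmersion (sigmaInj Z k.down).left := fun k =>
    inferInstanceAs (IsOpenImmersion (Sigma.ι (fun k => (Z k).left) k.down))
  have h1 : Sieve.ofArrows (fun k : ULift.{u} (Fin n) => Z k.down) (fun k => sigmaInj Z k.down) ∈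
      Scheme.ProEt.topology X (sigmaObj Z) :=
    zariski_mem_topology _ _ fun x =>
      ⟨⟨(sigmaOpenCover fun k => (Z k).left).idx x⟩, (sigmaOpenCover fun k => (Z k).left).covers x⟩
  refine (Scheme.ProEt.topology X).transitive (singleton_mem_topology (sigmaOut Z z)) _ ?_
  rintro W g ⟨W', m, _, ⟨⟩, rfl⟩
  refine (Scheme.ProEt.topology X).superset_covering ?_ ((Scheme.ProEt.topology X).pullback_stable m h1)
  rintro W'' l ⟨_, q, _, ⟨k⟩, hq⟩
  refine ⟨_, q, _, ⟨k.down⟩, ?_⟩
  rw [← Category.assoc l m, ← hq, Category.assoc, sigmaInj_out]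

/-- a family of sections trivialising a sheaf of modules -/
structure IsTrivP (G : EtModW.ModP Λ X) (U : X.ProEt) {M : Type (u + 1)} [AddCommGroup M] [Module Λ M]
    (σ : M →ₗ[Λ] G.obj.obj (op U)) : Prop where
  surj : ∀ {V : X.ProEt} (g : V ⟶ U) (s : G.obj.obj (op V)), ∃ S ∈ Scheme.ProEt.topology X V,
    ∀ {W : X.ProEt} (h : W ⟶ V), S h → ∃ m, res G h s = res G (h ≫ g) (σ m)
  inj : ∀ {V : X.ProEt} (g : V ⟶ U) (m : M), res G g (σ m) = 0 → Nonempty V.left → m = 0

variable {G : EtModW.ModP Λ X} {U : X.ProEt} {M : Type (u + 1)} [AddCommGroup M] [Module Λ M]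
  {σ : M →ₗ[Λ] G.obj.obj (op U)}

theorem IsTrivP.comap (h : IsTrivP G U σ) {U' : X.ProEt} (k : U' ⟶ U) : IsTrivP G U' ((res G k).comp σ) where
  surj g s := by
    obtain ⟨S, hS, hS'⟩ := h.surj (g ≫ k) s
    refine ⟨S, hS, fun {W} l hl => ?_⟩
    obtain ⟨m, hm⟩ := hS' l hl
    exact ⟨m, by rw [hm, LinearMap.comp_apply, res_res, Category.assoc]⟩
  inj g m hm hne := h.inj (g ≫ k) m (by rw [← res_res]; exact hm) hne

theorem IsTrivP.eq_of_res (h : IsTrivP G U σ) {V : X.ProEt} (g : V ⟶ U) [Nonempty V.left] {m m' : M}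
    (hm : res G g (σ m) = res G g (σ m')) : m = m' :=
  sub_eq_zero.1 (h.inj g _ (by rw [map_sub, map_sub, hm, sub_self]) inferInstance)

section Iso

variable (G U)

local notation "JU" => GrothendieckTopology.over (Scheme.ProEt.topology X) U

variable {G U}

theorem nonempty_over_iso (h : IsTrivP G U σ) :
    Nonempty (G.over U ≅ (constantSheaf (JU) (ModuleCat.{u + 1} Λ)).obj (ModuleCat.of Λ M)) := by
  let ψ : (Functor.const (Over U)ᵒᵖ).obj (ModuleCat.of Λ M) ⟶ (G.over U).obj :=
    { app := fun V => ModuleCat.ofHom ((res G V.unop.hom).comp σ)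
      naturality := fun V W k => by
        ext m
        change res G W.unop.hom (σ m) = res G k.unop.left (res G V.unop.hom (σ m))
        rw [res_res, Over.w] }
  haveI : Presheaf.IsLocallyInjective (JU) ψ := ⟨fun {V} x y hxy => by
    rw [GrothendieckTopology.mem_over_iff]
    rcases isEmpty_or_nonempty V.unop.left.left with hV | hV
    · exact (Scheme.ProEt.topology X).superset_covering bot_le (Scheme.ProEt.bot_mem_topology V.unop.left)
    · rw [show x = y from h.eq_of_res V.unop.hom hxy]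
      refine (Scheme.ProEt.topology X).superset_covering ?_ ((Scheme.ProEt.topology X).top_mem _)
      intro W k _
      rw [Sieve.overEquiv_iff]
      rfl⟩
  haveI : Presheaf.IsLocallySurjective (JU) ψ := ⟨fun {V} s => by
    rw [GrothendieckTopology.mem_over_iff]
    obtain ⟨S, hS, hS'⟩ := h.surj V.hom s
    refine (Scheme.ProEt.topology X).superset_covering ?_ hS
    intro W k hk
    rw [Sieve.overEquiv_iff]
    obtain ⟨m, hm⟩ := hS' k hk
    exact ⟨m, hm.symm⟩⟩
  have hW : (JU).W ψ := (JU).W_of_isLocallyBijective _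
  haveI : IsIso ((presheafToSheaf (JU) (ModuleCat.{u + 1} Λ)).map ψ) := ((JU).W_iff _).1 hW
  exact ⟨sheafificationIso (G.over U) ≪≫ (asIso ((presheafToSheaf (JU) (ModuleCat.{u + 1} Λ)).map ψ)).symm⟩

theorem exists_triv (e : G.over U ≅ (constantSheaf (JU) (ModuleCat.{u + 1} Λ)).obj (ModuleCat.of Λ M)) :
    ∃ σ : M →ₗ[Λ] G.obj.obj (op U), IsTrivP G U σ := by
  let K : (Over U)ᵒᵖ ⥤ ModuleCat.{u + 1} Λ := (Functor.const _).obj (ModuleCat.of Λ M)
  let α : K ⟶ (G.over U).obj :=
    toSheafify (JU) K ≫ ((sheafToPresheaf (JU) (ModuleCat.{u + 1} Λ)).mapIso e).inv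
  have hw : (JU).W α := by
    refine ((JU).W).comp_mem _ _ ((JU).W_toSheafify _) ?_
    exact ((JU).W).of_isIso _
  have hb := ((JU).W_iff_isLocallyBijective α).1 hw
  haveI := hb.1
  haveI := hb.2
  let σ : M →ₗ[Λ] G.obj.obj (op U) := (α.app (op (Over.mk (𝟙 U)))).hom
  have hα : ∀ {V : X.ProEt} (g : V ⟶ U) (m : M), (α.app (op (Over.mk g))).hom m = res G g (σ m) := fun {V} g m =>
    ConcreteCategory.congr_hom (α.naturality (Over.homMk g : Over.mk g ⟶ Over.mk (𝟙 U)).op) m
  refine ⟨σ, ⟨fun {V} g s => ?_, fun {V} g m hm ⟨v⟩ => ?_⟩⟩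
  · refine ⟨Sieve.overEquiv (Over.mk g) (Presheaf.imageSieve α (U := Over.mk g) s),
      ((Scheme.ProEt.topology X).mem_over_iff _).mp (Presheaf.imageSieve_mem (JU) α (U := op (Over.mk g)) s),
      fun {W} l hl => ?_⟩
    rw [Sieve.overEquiv_iff] at hl
    obtain ⟨m, hm⟩ := hl
    refine ⟨m, hm.symm.trans ?_⟩
    exact hα (l ≫ g) m
  · have h0 : (α.app (op (Over.mk g))).hom m = (α.app (op (Over.mk g))).hom 0 := by
      rw [hα, hm]
      exact (map_zero _).symm
    obtain ⟨W, f, w, hf, -⟩ := EpsLan.exists_mem_of_covering _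
      (((Scheme.ProEt.topology X).mem_over_iff _).mp
        (Presheaf.equalizerSieve_mem (JU) α (X := op (Over.mk g)) m 0 h0)) v
    rw [Sieve.overEquiv_iff] at hf
    exact hf

end Iso

section Decomp

/-- constant pieces of a section -/
theorem exists_pieces (h : IsTrivP G U σ) {V : X.ProEt} [CompactSpace V.left] (g : V ⟶ U) (s : G.obj.obj (op V)) :
    ∃ (n : ℕ) (Z : Fin n → X.ProEt) (z : ∀ k, Z k ⟶ V) (m : Fin n → M), (∀ k, IsAffine (Z k).left) ∧
      (∀ x : V.left, ∃ k, x ∈ Set.range (z k).left) ∧ ∀ k, res G (z k) s = res G (z k ≫ g) (σ (m k)) := by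
  obtain ⟨S, hS, hS'⟩ := h.surj g s
  obtain ⟨n, Z, z, hZ, hz, hs⟩ := exists_finite_affine_compact V S hS
  choose m hm using fun k => hS' (z k) (hz k)
  exact ⟨n, Z, z, m, hZ, hs, hm⟩

/-- sections of constant sheaves on quasi-compact objects are constant on a finite open decomposition -/
theorem exists_decomp (h : IsTrivP G U σ) {V : X.ProEt} [CompactSpace V.left] [QuasiSeparatedSpace V.left]
    (g : V ⟶ U) (s : G.obj.obj (op V)) :
    ∃ (N : ℕ) (O : Fin N → V.left.Opens) (m : Fin N → M), (⨆ k, O k) = ⊤ ∧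
      Pairwise (fun k l => Disjoint (O k : Set V.left) (O l)) ∧
      ∀ k, res G (pieceHom V (O k)) s = res G (pieceHom V (O k) ≫ g) (σ (m k)) := by
  classical
  obtain ⟨n, Z, z, m, hZ, hs, hm⟩ := exists_pieces h g s
  haveI : ∀ k, IsAffine (Z k).left := hZ
  -- the value at a point does not depend on the piece
  have huniq : ∀ {W : X.ProEt} (l : W ⟶ V) (m' : M), res G l s = res G (l ≫ g) (σ m') →
      ∀ (k : Fin n) (w : W.left), l.left w ∈ Set.range (z k).left → m' = m k := by
    rintro W l m' hl k w ⟨y, hy⟩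
    haveI := nonempty_pb l (z k) w y hy.symm
    refine h.eq_of_res (pfst l (z k) ≫ l ≫ g) ?_
    rw [← res_res, ← hl, res_res, pb_w, ← res_res, hm, res_res]
    exact congrArg (fun t => res G t (σ (m k))) ((Category.assoc _ _ _).symm.trans
      ((congrArg (· ≫ g) (pb_w l (z k)).symm).trans (Category.assoc _ _ _)))
  let vals : Finset M := Finset.univ.image m
  let e := vals.equivFin.symm
  let A : Fin vals.card → Set V.left := fun a => ⋃ k ∈ {k | m k = (e a : M)}, Set.range (z k).left
  let q : sigmaObj Z ⟶ V := sigmaOut Z z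
  haveI := compactSpace_sigmaObj Z
  haveI hqs : Surjective q.left := ⟨fun x => by
    obtain ⟨k, w, hw⟩ := hs x
    refine ⟨(sigmaInj Z k).left w, ?_⟩
    rw [← hw, ← Scheme.Hom.comp_apply]
    exact congrArg (fun m : Z k ⟶ V => m.left w) (sigmaInj_out Z z k)⟩
  haveI : WeaklyEtale q.left := weaklyEtale_left q
  haveI : QuasiCompact q.left := (quasiCompact_iff_compactSpace q.left).2 inferInstance
  have hq := Flat.isQuotientMap_of_surjective q.left
  have hqk : ∀ k w, q.left ((sigmaInj Z k).left w) = (z k).left w := fun k w => by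
    rw [← Scheme.Hom.comp_apply]
    exact congrArg (fun m : Z k ⟶ V => m.left w) (sigmaInj_out Z z k)
  have hA : ∀ a, IsOpen (A a) := fun a => by
    rw [← hq.isOpen_preimage]
    have e1 : q.left ⁻¹' A a = ⋃ k ∈ {k | m k = (e a : M)}, Set.range (sigmaInj Z k).left := by
      ext y
      obtain ⟨k, w, hw⟩ := (sigmaOpenCover fun k => (Z k).left).exists_eq y
      have hy : y = (sigmaInj Z k).left w := hw.symm
      subst hy
      simp only [A, Set.mem_preimage, Set.mem_iUnion, Set.mem_setOf_eq, exists_prop]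
      refine ⟨fun ⟨l, hl, hmem⟩ => ⟨k, ?_, w, rfl⟩, fun ⟨l, hl, v, hv⟩ => ⟨l, hl, v, ?_⟩⟩
      · rw [hqk] at hmem
        rw [← hl]
        exact huniq (z k) (m k) (hm k) l w hmem
      · rw [← hqk l v, hv]
    rw [e1]
    refine isOpen_biUnion fun k _ => ?_
    haveI : IsOpenImmersion (sigmaInj Z k).left :=
      inferInstanceAs (IsOpenImmersion (Sigma.ι (fun k => (Z k).left) k))
    exact (sigmaInj Z k).left.isOpenEmbedding.isOpen_range
  let O : Fin vals.card → V.left.Opens := fun a => ⟨A a, hA a⟩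
  refine ⟨vals.card, O, fun a => (e a : M), ?_, fun a b hab => ?_, fun a => ?_⟩
  · refine top_unique fun x _ => ?_
    obtain ⟨k, hk⟩ := hs x
    refine TopologicalSpace.Opens.mem_iSup.2 ⟨e.symm ⟨m k, Finset.mem_image_of_mem m (Finset.mem_univ k)⟩, ?_⟩
    refine Set.mem_iUnion₂.2 ⟨k, ?_, hk⟩
    simp
  · refine Set.disjoint_left.2 fun x hxa hxb => hab (e.injective (Subtype.ext ?_))
    obtain ⟨k, hk, hxk⟩ := Set.mem_iUnion₂.1 hxa
    obtain ⟨l, hl, hxl⟩ := Set.mem_iUnion₂.1 hxb
    obtain ⟨w, rfl⟩ := hxk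
    exact hk.symm.trans ((huniq (z k) (m k) (hm k) l w hxl).trans hl)
  · refine sect_ext G ((Scheme.ProEt.topology X).pullback_stable (pieceHom V (O a)) (ofArrows_mem Z z hs))
      fun {W} l hl => ?_
    obtain ⟨_, p, _, ⟨k⟩, hp⟩ := hl
    have e1 : res G l (res G (pieceHom V (O a)) s) = res G ((l ≫ pieceHom V (O a)) ≫ g) (σ (m k)) := by
      rw [res_res, ← hp, ← res_res, hm, res_res, Category.assoc]
    rcases isEmpty_or_nonempty W.left with hW | ⟨⟨w⟩⟩
    · haveI := subsingleton_of_isEmpty G W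
      exact Subsingleton.elim _ _
    · have hx : (l ≫ pieceHom V (O a)).left w ∈ A a := (Scheme.Opens.range_ι (O a)).le ⟨l.left w, rfl⟩
      obtain ⟨k', hk', hxk'⟩ := Set.mem_iUnion₂.1 hx
      have hk : m k = (e a : M) := (huniq (l ≫ pieceHom V (O a)) (m k) (by
        rw [← res_res]; exact e1) k' w hxk').trans hk'
      rw [e1, hk, res_res, Category.assoc]

end Decomp

/-- every compact object is covered by finitely many trivialised affines -/
def HasTriv (G : EtModW.ModP Λ X) : Prop :=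
  ∀ W : X.ProEt, CompactSpace W.left → QuasiSeparatedSpace W.left →
    ∃ (n : ℕ) (Z : Fin n → X.ProEt) (z : ∀ k, Z k ⟶ W), (∀ k, IsAffine (Z k).left) ∧
      (∀ x : W.left, ∃ k, x ∈ Set.range (z k).left) ∧
      ∀ k, ∃ (M : Type (u + 1)) (_ : AddCommGroup M) (_ : Module Λ M) (_ : Module.FinitePresentation Λ M)
        (σ : M →ₗ[Λ] G.obj.obj (op (Z k))), IsTrivP G (Z k) σ

theorem hasTriv_of_isFPLocConstP {G : EtModW.ModP Λ X} (h : EtModW.IsFPLocConstP Λ G) : HasTriv G := by
  obtain ⟨ι, U, hU, he⟩ := h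
  intro W _ _
  let q : W ⟶ ProEtS.topP X := MorphismProperty.Over.homMk W.hom (Category.comp_id _)
  obtain ⟨n, Z, z, hZ, hz, hs⟩ :=
    exists_finite_affine_compact W _ ((Scheme.ProEt.topology X).pullback_stable q hU)
  refine ⟨n, Z, z, hZ, hs, fun k => ?_⟩
  obtain ⟨_, p, _, ⟨i⟩, -⟩ := hz k
  obtain ⟨M, _, _, hM, ⟨e⟩⟩ := he i
  obtain ⟨σ, hσ⟩ := exists_triv e
  exact ⟨M, inferInstance, inferInstance, hM, _, hσ.comap p⟩

end Groth.Agent.ProEtLC
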